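import Cfsg.Agent.Lib.SmallGroups.NineLocal.Action
import Cfsg.Agent.Lib.Char.Basic

/-!
Automizer cyclic of order four: the Sylow subgroup is normal or the group is simple of order `360`.
-/

set_option autoImplicit false

namespace CfsgLib.SmallGroups.NineLocal

open Cfsg CfsgLib.Char CfsgLib.InvolChar
open DihedralThree (app)

universe u

variable {G : Type u} [Group G] [Finite G] {M : Sylow 3 G}

local notation "𝒩" M => Subgroup.normalizer ((M : Subgroup G) : Set G)

theorem eq_irrOne_of_deg_one [IsSimpleGroup G] (hna : ¬ IsMulCommutative G) (χ : IrrCharacter G)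
    (hdeg : deg χ = 1) : χ = irrOne := by
  haveI := Fintype.ofFinite G
  have h1 : (χ : G → ℂ) 1 = 1 := by rw [deg_spec, hdeg]; norm_num
  have hmul := linear_map_mul (isCharacter_of_isIrr χ.2) h1
  let f : G →* ℂ := { toFun := χ.1, map_one' := h1, map_mul' := hmul }
  have hf : f.toHomUnits = 1 := by
    rcases IsSimpleGroup.eq_bot_or_eq_top_of_normal f.toHomUnits.ker inferInstance with hk | hk
    · exact absurd ⟨⟨fun a b => (MonoidHom.ker_eq_bot_iff f.toHomUnits).mp hk (by simp [mul_comm])⟩⟩ hna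
    · exact MonoidHom.ext fun g => MonoidHom.mem_ker.mp (hk ▸ Subgroup.mem_top g)
  refine Subtype.ext (funext fun g => ?_)
  rw [irrOne_apply]
  exact congrArg Units.val (DFunLike.congr_fun hf g)

/-- `9` divides the size of a set on which `M` acts freely by conjugation. -/
theorem nine_dvd_of_free (h : Hyp M) (T : Set G)
    (hT : ∀ m ∈ (M : Subgroup G), ∀ z ∈ T, m * z * m⁻¹ ∈ T)
    (hfree : ∀ m ∈ (M : Subgroup G), m ≠ 1 → ∀ z ∈ T, m * z * m⁻¹ ≠ z) : 9 ∣ Nat.card T := by
  classical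
  let S := ↥(M : Subgroup G)
  haveI : Fintype S := Fintype.ofFinite S
  letI : MulAction S T :=
    { smul := fun m z => ⟨(m : G) * z * (m : G)⁻¹, hT m m.2 z z.2⟩
      one_smul := fun z => Subtype.ext (by show ((1 : S) : G) * z * ((1 : S) : G)⁻¹ = z; simp)
      mul_smul := fun a b z => Subtype.ext (by
        show ((a * b : S) : G) * z * ((a * b : S) : G)⁻¹ = (a : G) * ((b : G) * z * (b : G)⁻¹) * (a : G)⁻¹
        rw [Subgroup.coe_mul]; group) }
  haveI := Fintype.ofFinite T
  have hb := MulAction.sum_card_fixedBy_eq_card_orbits_mul_card_group S T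
  have hfix : ∀ x : S, x ≠ 1 → Fintype.card (MulAction.fixedBy T x) = 0 := by
    intro x hx
    rw [Fintype.card_eq_zero_iff]
    exact ⟨fun ⟨z, hz⟩ => hfree x x.2 (fun e => hx (Subtype.ext e)) z z.2 (congrArg Subtype.val hz)⟩
  have h1 : Fintype.card (MulAction.fixedBy T (1 : S)) = Fintype.card T :=
    Fintype.card_congr ⟨fun q => q.1, fun q => ⟨q, one_smul S q⟩, fun q => rfl, fun q => rfl⟩
  rw [← Finset.add_sum_erase _ _ (Finset.mem_univ (1 : S)),
    Finset.sum_congr rfl (fun x hx => hfix x (Finset.ne_of_mem_erase hx)), h1, Finset.sum_const_zero, add_zero,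
    show Fintype.card S = 9 by rw [← Nat.card_eq_fintype_card]; exact h.card9] at hb
  rw [Nat.card_eq_fintype_card, hb]
  exact dvd_mul_left _ _

theorem Hyp.of_quarter (h : Hyp M)
    (hN : Nat.card ↥(Subgroup.normalizer ((M : Subgroup G) : Set G)) = 36)
    (n₀ : ↥(Subgroup.normalizer ((M : Subgroup G) : Set G))) (hn₀ : (n₀ : G) * n₀ ∉ (M : Subgroup G)) :
    (∀ x ∈ (M : Subgroup G), x ≠ 1 → Subgroup.centralizer ({x} : Set G) = (M : Subgroup G)) ∧
    ((M : Subgroup G).Normal ∨ Nat.card G = 360 ∧ IsSimpleGroup G) := by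
  classical
  haveI := Fintype.ofFinite G
  obtain ⟨e, hrot, hF, himg⟩ := h.exists_quarter hN n₀ hn₀
  have hC : ∀ x ∈ (M : Subgroup G), x ≠ 1 → Subgroup.centralizer ({x} : Set G) = (M : Subgroup G) := by
    intro x hx hx1
    obtain ⟨v, rfl⟩ := exists_el hF hx
    have hv : v ≠ 0 := fun e' => hx1 (by rw [e', el_zero])
    have hcen := cen_mul hF hv
    have h4 : ∀ v : V, v ≠ 0 → (Finset.univ.filter fun y : V => y ≠ 0 ∧ quarterKind y = quarterKind v).card = 4 := by
      decide +kernel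
    rw [h4 v hv, hN] at hcen
    refine (Subgroup.eq_of_le_of_card_ge (fun m hm => Subgroup.mem_centralizer_singleton_iff.mpr
      (h.commute hm hx).eq) ?_).symm
    rw [h.card9]
    exact le_of_eq (by unfold cen at hcen; omega)
  refine ⟨hC, ?_⟩
  rcases hF.quarter_bound hN with hn | ⟨h360, hlin⟩
  · exact Or.inl hn
  right
  refine ⟨h360, ?_⟩
  haveI : Nontrivial G := Finite.one_lt_card_iff_nontrivial.mp (by omega)
  refine { eq_bot_or_eq_top_of_normal := fun L hL => ?_ }
  by_contra hLne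
  push Not at hLne
  obtain ⟨hLbot, hLtop⟩ := hLne
  by_cases hint : ∀ x ∈ (M : Subgroup G), x ∈ L → x = 1
  · -- a normal subgroup of order prime to three
    have h3 : ¬ 3 ∣ Nat.card L := by
      intro hd
      haveI : Fact (Nat.Prime 3) := ⟨Nat.prime_three⟩
      obtain ⟨z, hz⟩ := exists_prime_orderOf_dvd_card' 3 hd
      have hz3 : (z : G) ^ 3 = 1 := by
        have := pow_orderOf_eq_one z
        rw [hz] at this
        exact congrArg Subtype.val this
      obtain ⟨g, hg⟩ := exists_conj_mem (M := M) 1 (v := (z : G)) (by simpa using hz3)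
      have h1 := hint _ hg (hL.conj_mem _ z.2 g)
      rw [conj_eq_one_iff] at h1
      rw [show z = 1 from Subtype.ext h1, orderOf_one] at hz
      omega
    have hfree : ∀ m ∈ (M : Subgroup G), m ≠ 1 → ∀ z ∈ L, z ≠ 1 → m * z * m⁻¹ ≠ z := by
      intro m hm hm1 z hz hz1 he
      refine hz1 (hint z ?_ hz)
      rw [← hC m hm hm1]
      refine Subgroup.mem_centralizer_singleton_iff.mpr ?_
      calc z * m = m * z * m⁻¹ * m := by rw [he]
        _ = m * z := by group
    have hconj1 : ∀ m z : G, z ≠ 1 → m * z * m⁻¹ ≠ 1 := fun m z hz e' => hz (conj_eq_one_iff.mp e')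
    have hfree9 : 9 ∣ Nat.card {z : G | z ∈ L ∧ z ≠ 1} :=
      nine_dvd_of_free h _ (fun m _ z hz => ⟨hL.conj_mem _ hz.1 m, hconj1 m z hz.2⟩)
        (fun m hm hm1 z hz => hfree m hm hm1 z hz.1 hz.2)
    have hcardL : Nat.card {z : G | z ∈ L ∧ z ≠ 1} + 1 = Nat.card L := by
      rw [Nat.card_coe_set_eq, show Nat.card L = ((L : Subgroup G) : Set G).ncard from (Nat.card_coe_set_eq _).symm ▸ rfl,
        show {z : G | z ∈ L ∧ z ≠ 1} = (L : Set G) \ {1} from rfl]
      exact Set.ncard_sdiff_singleton_add_one L.one_mem (Set.toFinite _)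
    have hdvd : Nat.card L ∣ 40 := by
      have h1 : Nat.card L ∣ 9 * 40 := by rw [show 9 * 40 = Nat.card G by omega]; exact Subgroup.card_subgroup_dvd_card L
      refine Nat.Coprime.dvd_of_dvd_mul_left ?_ h1
      rw [show (9 : ℕ) = 3 ^ 2 by norm_num]
      exact Nat.Coprime.pow_right 2 (Nat.Coprime.symm ((Nat.Prime.coprime_iff_not_dvd Nat.prime_three).mpr h3))
    have hL1 : Nat.card L ≠ 1 := fun e' => hLbot (Subgroup.card_eq_one.mp e')
    have hL10 : Nat.card L = 10 := by
      have : Nat.card L ≤ 40 := Nat.le_of_dvd (by norm_num) hdvd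
      have hkey : ∀ l ≤ 40, l ∣ 40 → l % 9 = 1 → l = 1 ∨ l = 10 := by decide
      have := hkey _ this hdvd (by omega)
      omega
    have hinv9 : 9 ∣ Nat.card {z : G | z ∈ L ∧ z ≠ 1 ∧ z * z = 1} :=
      nine_dvd_of_free h _ (fun m _ z hz => ⟨hL.conj_mem _ hz.1 m, hconj1 m z hz.2.1, by
          rw [conj_mul, hz.2.2]; group⟩)
        (fun m hm hm1 z hz => hfree m hm hm1 z hz.1 hz.2.1)
    haveI : Fact (Nat.Prime 2) := ⟨Nat.prime_two⟩
    haveI : Fact (Nat.Prime 5) := ⟨by norm_num⟩
    obtain ⟨z, hz⟩ := exists_prime_orderOf_dvd_card' 2 (show 2 ∣ Nat.card L by omega)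
    obtain ⟨w, hw⟩ := exists_prime_orderOf_dvd_card' 5 (show 5 ∣ Nat.card L by omega)
    have hsub : {z : G | z ∈ L ∧ z ≠ 1 ∧ z * z = 1} ⊂ {z : G | z ∈ L ∧ z ≠ 1} := by
      refine ⟨fun y hy => ⟨hy.1, hy.2.1⟩, fun hsup => ?_⟩
      have hw1 : (w : G) ≠ 1 := fun e' => by
        rw [show w = 1 from Subtype.ext e', orderOf_one] at hw; omega
      have := hsup (show (w : G) ∈ {z : G | z ∈ L ∧ z ≠ 1} from ⟨w.2, hw1⟩)
      have h2 : orderOf w ∣ 2 := orderOf_dvd_of_pow_eq_one (Subtype.ext (by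
        rw [SubgroupClass.coe_pow, pow_two]; exact this.2.2))
      rw [hw] at h2
      omega
    have hlt : Nat.card {z : G | z ∈ L ∧ z ≠ 1 ∧ z * z = 1} < Nat.card {z : G | z ∈ L ∧ z ≠ 1} := by
      rw [Nat.card_coe_set_eq, Nat.card_coe_set_eq]; exact Set.ncard_lt_ncard hsub
    have hpos : 0 < Nat.card {z : G | z ∈ L ∧ z ≠ 1 ∧ z * z = 1} := by
      have hz1 : (z : G) ≠ 1 := fun e' => by
        rw [show z = 1 from Subtype.ext e', orderOf_one] at hz; omega
      have hzz : (z : G) * z = 1 := by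
        have := pow_orderOf_eq_one z
        rw [hz, pow_two] at this
        exact congrArg Subtype.val this
      haveI : Nonempty {z : G | z ∈ L ∧ z ≠ 1 ∧ z * z = 1} := ⟨⟨z, z.2, hz1, hzz⟩⟩
      exact Nat.card_pos
    omega
  · -- a normal subgroup containing `M`
    push Not at hint
    obtain ⟨x, hxM, hxL, hx1⟩ := hint
    have hML : (M : Subgroup G) ≤ L := by
      intro y hy
      obtain ⟨v, rfl⟩ := exists_el hF hxM
      obtain ⟨w, rfl⟩ := exists_el hF hy
      have hv : v ≠ 0 := fun e' => hx1 (by rw [e', el_zero])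
      obtain ⟨i, j, rfl⟩ := turn_facts.2.2.2 v w hv
      have hs : ∀ (i : ZMod 3) (v : V), app ((i, 0), (0, i)) v = i.val • v := by decide +kernel
      have hn : ∀ (k : ℕ) (v : V), el (phi e) (k • v) = el (phi e) v ^ k := fun k v => map_pow (phi e) _ k
      rw [el_add, hs, hs, hn, hn, ← hrot, el_mat]
      exact mul_mem (pow_mem hxL _) (pow_mem (hL.conj_mem _ hxL _) _)
    haveI : Fact (Nat.Prime 3) := ⟨Nat.prime_three⟩
    have hLN : L ⊔ (𝒩 M) = ⊤ := by
      rw [sup_comm]; exact Sylow.normalizer_sup_eq_top' M hML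
    let q : ↥(𝒩 M) →* G ⧸ L := (QuotientGroup.mk' L).comp (𝒩 M).subtype
    have hq : Function.Surjective q := by
      intro y
      obtain ⟨g, rfl⟩ := QuotientGroup.mk'_surjective L y
      obtain ⟨l, hl, n, hn, rfl⟩ := Subgroup.mem_sup_of_normal_left.mp (hLN.symm ▸ Subgroup.mem_top g)
      exact ⟨⟨n, hn⟩, by show QuotientGroup.mk' L n = QuotientGroup.mk' L (l * n);
                         rw [map_mul, QuotientGroup.mk'_apply L l, (QuotientGroup.eq_one_iff l).mpr hl, one_mul]⟩
    have hgen : ∀ n : ↥(𝒩 M), ∃ i : ℕ, q n = q n₀ ^ i := by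
      intro n
      have hT : mat e n ∈ turns := himg ▸ (mem_img e).mpr ⟨n, rfl⟩
      have hp : ∀ i : ℕ, ∀ v, app (mat e (n₀ ^ i)) v = (app rotT)^[i] v := by
        intro i
        induction i with
        | zero => intro v; rw [pow_zero, app_mat_one]; rfl
        | succ i ih => intro v; rw [pow_succ', app_mat_mul, ih, hrot, Function.iterate_succ_apply']
      have hi : ∃ i : Fin 4, mat e n = mat e (n₀ ^ i.val) := by
        simp only [turns, Finset.mem_insert, Finset.mem_singleton] at hT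
        rcases hT with e' | e' | e' | e'
        exacts [⟨0, mat_ext fun v => by rw [e', hp, turn_facts.1]; rfl⟩,
          ⟨1, mat_ext fun v => by rw [e', hp, turn_facts.1]; rfl⟩,
          ⟨2, mat_ext fun v => by rw [e', hp, turn_facts.1]; rfl⟩,
          ⟨3, mat_ext fun v => by rw [e', hp, turn_facts.1]; rfl⟩]
      obtain ⟨i, hi⟩ := hi
      refine ⟨i.val, ?_⟩
      have := hML ((mat_eq_iff e h n (n₀ ^ i.val)).mp hi)
      rw [← map_pow]
      exact QuotientGroup.eq.mpr this
    haveI : IsMulCommutative (G ⧸ L) := ⟨⟨fun a b => by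
      obtain ⟨n, rfl⟩ := hq a
      obtain ⟨m, rfl⟩ := hq b
      obtain ⟨i, hi⟩ := hgen n
      obtain ⟨j, hj⟩ := hgen m
      rw [hi, hj, ← pow_add, ← pow_add, add_comm]⟩⟩
    letI : CommGroup (G ⧸ L) := { (inferInstance : Group (G ⧸ L)) with mul_comm := fun a b => IsMulCommutative.is_comm.comm a b }
    obtain ⟨g, hg⟩ : ∃ g : G, g ∉ L := by
      by_contra hall
      push Not at hall
      exact hLtop ((Subgroup.eq_top_iff' L).mpr hall)
    obtain ⟨f, hf⟩ := CommGroup.exists_apply_ne_one_of_hasEnoughRootsOfUnity (G ⧸ L) ℂ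
      (a := (g : G ⧸ L)) (fun e' => hg ((QuotientGroup.eq_one_iff g).mp e'))
    let χ : IrrCharacter G := ⟨_, isIrrCharacter_units_hom (f.comp (QuotientGroup.mk' L))⟩
    have hone : ∀ y ∈ L, (χ : G → ℂ) y = 1 := fun y hy => by
      show (((f.comp (QuotientGroup.mk' L)) y : ℂˣ) : ℂ) = 1
      rw [MonoidHom.comp_apply, QuotientGroup.mk'_apply, (QuotientGroup.eq_one_iff y).mpr hy, map_one, Units.val_one]
    refine hlin χ ?_ ?_ ?_ ?_
    · intro e'
      have := congrFun (congrArg Subtype.val e') g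
      rw [irrOne_apply] at this
      exact hf (Units.ext this)
    · have := hone 1 L.one_mem
      rw [deg_spec] at this
      exact_mod_cast this
    · have := hone _ (hML (el_mem hF (1, 0)))
      rw [val_spec hF] at this
      exact_mod_cast this
    · have := hone _ (hML (el_mem hF (1, 1)))
      rw [val_spec hF] at this
      exact_mod_cast this

end CfsgLib.SmallGroups.NineLocal
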