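import Cfsg.Agent.Lib.SmallGroups.NineLocal.Main
import Cfsg.Agent.Lib.SmallSimple.Order360
import Cfsg.Agent.Lib.InvolChar.AutA6

/-!
Automizer dihedral of order eight: the Sylow subgroup is normal or the group is `S₆`.
-/

set_option autoImplicit false

namespace CfsgLib.SmallGroups.NineLocal

open Cfsg CfsgLib.Char CfsgLib.InvolChar
open DihedralThree (app)

universe u

variable {G : Type u} [Group G] [Finite G]

/-- An extension of `A₆` by an element fixing an element of order three. -/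
theorem nonempty_sym_six (K : Subgroup G) [K.Normal] (hidx : K.index = 2)
    (e : ↥K ≃* ↥(alternatingGroup (Fin 6))) (hcent : ∀ g : G, (∀ k ∈ K, g * k = k * g) → g ∈ K)
    (n : G) (hn : n ∉ K) (c : ↥K) (hc : orderOf c = 3) (hnc : n * c * n⁻¹ = c) :
    Nonempty (G ≃* Equiv.Perm (Fin 6)) := by
  classical
  let φ : G → (↥(alternatingGroup (Fin 6)) ≃* ↥(alternatingGroup (Fin 6))) := fun g =>
    e.symm.trans ((MulAut.conjNormal g).trans e)
  have hφmul : ∀ g h y, φ (g * h) y = φ g (φ h y) := by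
    intro g h y
    simp [φ]
  let Rel : G → Equiv.Perm (Fin 6) → Prop := fun g π => ∀ y, (φ g y : Equiv.Perm (Fin 6)) = π * y * π⁻¹
  have hRmul : ∀ g h π ρ, Rel g π → Rel h ρ → Rel (g * h) (π * ρ) := by
    intro g h π ρ hg hh y
    rw [hφmul, hg, hh]; group
  have hK : ∀ k (hk : k ∈ K), Rel k (e ⟨k, hk⟩) := by
    intro k hk y
    obtain ⟨z, rfl⟩ := e.surjective y
    show (e ((MulAut.conjNormal k) (e.symm (e z))) : Equiv.Perm (Fin 6)) = _
    rw [e.symm_apply_apply, show (MulAut.conjNormal k) z = ⟨k, hk⟩ * z * (⟨k, hk⟩ : ↥K)⁻¹ from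
      Subtype.ext (MulAut.conjNormal_apply k z)]
    simp
  obtain ⟨π₀, hπ₀⟩ := CfsgLib.InvolChar.A6.aut_is_conj (φ n) (e c) (by rw [MulEquiv.orderOf_eq, hc]) (by
    show e ((MulAut.conjNormal n) (e.symm (e c))) = e c
    rw [e.symm_apply_apply, show (MulAut.conjNormal n) c = c from Subtype.ext ((MulAut.conjNormal_apply n c).trans hnc)])
  have hex : ∀ g, ∃ π, Rel g π := by
    intro g
    by_cases hg : g ∈ K
    · exact ⟨_, hK g hg⟩
    · have hmem : n⁻¹ * g ∈ K := by
        have := Subgroup.mul_mem_iff_of_index_two hidx (a := n⁻¹) (b := g)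
        rw [this]
        exact iff_of_false (fun h => hn (by simpa using inv_mem h)) hg
      have := hRmul n _ _ _ hπ₀ (hK _ hmem)
      rw [mul_inv_cancel_left] at this
      exact ⟨_, this⟩
  choose F hF using hex
  have huniq : ∀ g π, Rel g π → π = F g := by
    intro g π h
    have := CfsgLib.InvolChar.A6.eq_one_of_centralizes ((F g)⁻¹ * π) fun y => by
      have e1 : π * y * π⁻¹ = F g * y * (F g)⁻¹ := (h y).symm.trans (hF g y)
      calc (F g)⁻¹ * π * (y : Equiv.Perm (Fin 6)) = (F g)⁻¹ * (π * y * π⁻¹) * π := by group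
        _ = _ := by rw [e1]; group
    exact (inv_mul_eq_one.mp this).symm
  let f : G →* Equiv.Perm (Fin 6) := MonoidHom.mk' F fun g h => (huniq _ _ (hRmul g h _ _ (hF g) (hF h))).symm
  have hinj : Function.Injective f := by
    rw [injective_iff_map_eq_one]
    intro g hg
    change F g = 1 at hg
    have hfix : ∀ y, φ g y = y := fun y => Subtype.ext (by rw [hF g y, hg]; group)
    have hgK : g ∈ K := hcent g fun k hk => by
      have := hfix (e ⟨k, hk⟩)
      have h2 : (MulAut.conjNormal g) (⟨k, hk⟩ : ↥K) = ⟨k, hk⟩ := by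
        have h3 : e ((MulAut.conjNormal g) (e.symm (e ⟨k, hk⟩))) = e ⟨k, hk⟩ := this
        rw [e.symm_apply_apply] at h3
        exact e.injective h3
      have h4 : g * k * g⁻¹ = k := (MulAut.conjNormal_apply g (⟨k, hk⟩ : ↥K)).symm.trans (congrArg Subtype.val h2)
      calc g * k = g * k * g⁻¹ * g := by group
        _ = k * g := by rw [h4]
    have h5 := huniq g _ (hK g hgK)
    rw [hg] at h5
    have h6 : (⟨g, hgK⟩ : ↥K) = 1 := e.injective (Subtype.ext (by rw [h5, map_one]; rfl))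
    exact congrArg Subtype.val h6
  refine ⟨MulEquiv.ofBijective f ((Nat.bijective_iff_injective_and_card f).mpr ⟨hinj, ?_⟩)⟩
  rw [← Subgroup.card_mul_index K, hidx, Nat.card_congr e.toEquiv, nat_card_alternatingGroup, Nat.card_fin,
    Nat.card_perm, Nat.card_fin]
  rfl

theorem app_one_mat : ∀ v : V, app ((1, 0), (0, 1)) v = v := by decide +kernel

theorem quarter_inv : ∀ T : V × V, (∀ x, app T (app T (app T (app T x))) = x) →
    ¬ (∀ x, app T (app T x) = x) → ∀ x, app T (app T x) = -x := by decide +kernel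

theorem dihedral_sq : ∀ y : DihedralGroup 4, ∃ a b, y * y = a * b * a⁻¹ * b⁻¹ := by decide +kernel

theorem units_one_of_sq_cube {a : ℂˣ} (h2 : a * a = 1) (h3 : a ^ 3 = 1) : a = 1 := by
  rwa [pow_succ, pow_two, h2, one_mul] at h3

theorem Hyp.sym_six_of_dihedral {M : Sylow 3 G} (h : Hyp M)
    (eN : ↥(Subgroup.normalizer ((M : Subgroup G) : Set G)) ⧸
      (M : Subgroup G).subgroupOf (Subgroup.normalizer ((M : Subgroup G) : Set G)) ≃* DihedralGroup 4) :
    (M : Subgroup G).Normal ∨ Nonempty (G ≃* Equiv.Perm (Fin 6)) := by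
  classical
  haveI : Fact (Nat.Prime 3) := ⟨Nat.prime_three⟩
  haveI : Fact (Nat.Prime 2) := ⟨Nat.prime_two⟩
  haveI := Fintype.ofFinite G
  let N := Subgroup.normalizer ((M : Subgroup G) : Set G)
  let M' := (M : Subgroup G).subgroupOf N
  let π : ↥N →* DihedralGroup 4 := eN.toMonoidHom.comp (QuotientGroup.mk' M')
  have hπker : ∀ x : ↥N, π x = 1 ↔ (x : G) ∈ (M : Subgroup G) := fun x => by
    show eN (x : ↥N ⧸ M') = 1 ↔ _
    rw [map_eq_one_iff eN eN.injective, QuotientGroup.eq_one_iff]; rfl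
  have hπsurj : Function.Surjective π := eN.surjective.comp (QuotientGroup.mk'_surjective M')
  have hM'c : Nat.card M' = 9 :=
    (Nat.card_congr (Subgroup.subgroupOfEquivOfLe Subgroup.le_normalizer).toEquiv).trans h.card9
  have hN72 : Nat.card ↥N = 72 := by
    rw [← Subgroup.card_mul_index M', hM'c, Subgroup.index,
      Nat.card_congr eN.toEquiv, DihedralGroup.nat_card]
  -- the Sylow 2-subgroups of the normalizer
  have hS : ∀ S : Sylow 2 ↥N, Nonempty (↥(S : Subgroup ↥N) ≃* DihedralGroup 4) := by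
    intro S
    have hc : Nat.card ↥(S : Subgroup ↥N) = 8 := by
      rw [S.card_eq_multiplicity, hN72, show 72 = 2 ^ 3 * 9 by norm_num,
        Nat.factorization_mul (by norm_num) (by norm_num), Finsupp.add_apply,
        Nat.Prime.factorization_pow Nat.prime_two, Finsupp.single_eq_same,
        Nat.factorization_eq_zero_of_not_dvd (show ¬ 2 ∣ 9 by norm_num)]
      norm_num
    have hinj : Function.Injective (π.comp (S : Subgroup ↥N).subtype) := by
      rw [injective_iff_map_eq_one]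
      intro x hx
      have hx3 : ((x : ↥N) : G) ^ 3 = 1 := h.exp _ ((hπker x).mp hx)
      have h1 : x ^ 3 = 1 := Subtype.ext (Subtype.ext hx3)
      have h8 : x ^ 8 = 1 := hc ▸ pow_card_eq_one'
      exact pow_one x ▸ (pow_gcd_eq_one.mpr ⟨h1, h8⟩ : x ^ Nat.gcd 3 8 = 1)
    exact ⟨MulEquiv.ofBijective _ ((Nat.bijective_iff_injective_and_card _).mpr
      ⟨hinj, by rw [hc, DihedralGroup.nat_card]⟩)⟩
  obtain ⟨Φ, hloc⟩ := DihedralThree.exists_loc M h.card9 h.exp h.selfc h.cent hS
  obtain ⟨χ, hne, hdeg⟩ := hloc.exists_linear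
  have h1 : (χ : G → ℂ) 1 = 1 := by rw [deg_spec, hdeg]; norm_num
  let fc : G →* ℂ := { toFun := χ.1, map_one' := h1, map_mul' := linear_map_mul (isCharacter_of_isIrr χ.2) h1 }
  let f : G →* ℂˣ := fc.toHomUnits
  have hfne : f ≠ 1 := fun e' => hne (Subtype.ext (funext fun g => by
    rw [irrOne_apply]; exact congrArg Units.val (DFunLike.congr_fun e' g)))
  -- coordinates and inversion inside the normalizer
  obtain ⟨e⟩ := h.exists_coord
  have hmat1 : ∀ x : ↥N, (∀ v, app (mat e x) v = v) → π x = 1 := fun x hx => (hπker x).mpr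
    (mat_injective_part e h (mat_ext fun v => (hx v).trans
      (app_one_mat v).symm))
  have hmat1' : ∀ x : ↥N, π x = 1 → ∀ v, app (mat e x) v = v := fun x hx =>
    app_pow_of_mem e h x ((hπker x).mp hx)
  obtain ⟨r, hr⟩ := hπsurj (DihedralGroup.r 1)
  have hneg : ∀ v : V, app (mat e (r * r)) v = -v := by
    intro v
    rw [app_mat_mul]
    refine quarter_inv _ (fun x => ?_) (fun hall => ?_) v
    · rw [← app_mat_mul, ← app_mat_mul, ← app_mat_mul]
      refine hmat1' _ ?_ x
      rw [map_mul, map_mul, map_mul, hr]; decide +kernel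
    · have := hmat1 (r * r) fun x => by rw [app_mat_mul, hall]
      rw [map_mul, hr] at this
      exact absurd this (by decide +kernel)
  have hfM : ∀ m ∈ (M : Subgroup G), f m = 1 := by
    intro m hm
    obtain ⟨v, rfl⟩ : ∃ v, el (phi e) v = m := ⟨(e.symm ⟨m, hm⟩).toAdd, by simp [el]⟩
    have h2 := el_mat e (r * r) v
    rw [hneg, el_neg] at h2
    have h3 := congrArg f h2
    rw [map_inv, map_mul, map_mul, map_inv, mul_right_comm, mul_inv_cancel, one_mul, inv_eq_iff_mul_eq_one] at h3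
    exact units_one_of_sq_cube h3 (by rw [← map_pow, h.exp _ (phi_mem e v), map_one])
  let g : DihedralGroup 4 →* ℂˣ := (QuotientGroup.lift M' (f.comp N.subtype)
    (fun x hx => MonoidHom.mem_ker.mpr (hfM _ hx))).comp eN.symm.toMonoidHom
  have hg : ∀ x : ↥N, g (π x) = f x := by
    intro x
    show QuotientGroup.lift M' (f.comp N.subtype) (fun y hy => MonoidHom.mem_ker.mpr (hfM _ hy)) (eN.symm (eN (x : ↥N ⧸ M'))) = f x
    rw [eN.symm_apply_apply]; rfl
  have hNsq : ∀ x : ↥N, f x * f x = 1 := fun x => by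
    rw [← hg, ← map_mul]
    obtain ⟨a, b, hab⟩ := dihedral_sq (π x)
    rw [hab, map_mul, map_mul, map_mul, map_inv, map_inv, mul_right_comm (g a), mul_inv_cancel, one_mul,
      mul_inv_cancel]
  let K := f.ker
  have hMK : (M : Subgroup G) ≤ K := fun m hm => MonoidHom.mem_ker.mpr (hfM m hm)
  have hsup : N ⊔ K = ⊤ := Sylow.normalizer_sup_eq_top' M hMK
  have hKN : ∀ x : G, ∃ n : ↥N, f x = f n := by
    intro x
    obtain ⟨n, hn, k, hk, rfl⟩ := Subgroup.mem_sup_of_normal_right.mp (hsup ▸ Subgroup.mem_top x : x ∈ N ⊔ K)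
    exact ⟨⟨n, hn⟩, by rw [map_mul, MonoidHom.mem_ker.mp hk, mul_one]⟩
  have hval : ∀ x : G, f x = 1 ∨ f x = -1 := by
    intro x
    obtain ⟨n, hn⟩ := hKN x
    have h2 : ((f x : ℂˣ) : ℂ) * (f x : ℂˣ) = 1 := by rw [← Units.val_mul, hn, hNsq, Units.val_one]
    rcases mul_self_eq_one_iff.mp h2 with h' | h'
    · exact Or.inl (Units.ext h')
    · exact Or.inr (Units.ext (by rw [h', Units.val_neg, Units.val_one]))
  obtain ⟨x₁, hx₁⟩ : ∃ x : G, f x = -1 := by
    by_contra hall
    push Not at hall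
    exact hfne (MonoidHom.ext fun x => (hval x).resolve_right (hall x))
  have hne1 : (-1 : ℂˣ) ≠ 1 := fun e' => by
    have := congrArg (Units.val) e'
    norm_num at this
  have range2 : ∀ {H : Type u} [Group H] (j : H →* ℂˣ), (∀ x, j x = 1 ∨ j x = -1) → (∃ x, j x = -1) →
      j.ker.index = 2 := by
    intro H _ j h12 hex
    obtain ⟨x, hx⟩ := hex
    rw [Subgroup.index_ker, ← SetLike.coe_sort_coe, Nat.card_coe_set_eq,
      show ((j.range : Subgroup ℂˣ) : Set ℂˣ) = {1, -1} from Set.ext fun y => ⟨fun ⟨z, hz⟩ => hz ▸ h12 z, fun hy => by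
        rcases hy with rfl | rfl
        · exact ⟨1, map_one j⟩
        · exact ⟨x, hx⟩⟩, Set.ncard_pair hne1.symm]
  have hidx : K.index = 2 := range2 f hval ⟨x₁, hx₁⟩
  -- the Sylow subgroup of the kernel
  let MK : Sylow 3 ↥K := M.subtype hMK
  have hMKmem : ∀ x : ↥K, x ∈ (MK : Subgroup ↥K) ↔ (x : G) ∈ (M : Subgroup G) := fun x => Iff.rfl
  have hNK : ∀ x : ↥K, x ∈ Subgroup.normalizer ((MK : Subgroup ↥K) : Set ↥K) ↔ (x : G) ∈ N := by
    intro x
    rw [Subgroup.mem_normalizer_iff]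
    constructor
    · intro hx
      refine Subgroup.mem_normalizer_iff.mpr fun m => ⟨fun hm => ?_, fun hm => ?_⟩
      · exact (hMKmem _).mp ((hx ⟨m, hMK hm⟩).mp hm)
      · have hmK : m ∈ K := by
          have := mul_mem (mul_mem (inv_mem x.2) (hMK hm)) x.2
          simpa [mul_assoc] using this
        exact (hMKmem _).mp ((hx ⟨m, hmK⟩).mpr hm)
    · exact fun hx m => (Subgroup.mem_normalizer_iff.mp hx m)
  have hK9 : Nat.card ↥(MK : Subgroup ↥K) = 9 :=
    (Nat.card_congr (Subgroup.subgroupOfEquivOfLe hMK).toEquiv).trans h.card9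
  have hyK : Hyp MK := by
    refine ⟨hK9, fun m hm => Subtype.ext (h.exp _ hm), ?_, fun m hm hm1 y hy => ?_⟩
    · ext y
      rw [Subgroup.mem_centralizer_iff, hMKmem, ← SetLike.ext_iff.mp h.selfc, Subgroup.mem_centralizer_iff]
      exact ⟨fun hy m hm => congrArg Subtype.val (hy ⟨m, hMK hm⟩ hm), fun hy m hm => Subtype.ext (hy m hm)⟩
    · rw [hNK]
      exact h.cent _ hm (fun e' => hm1 (Subtype.ext e')) (Subgroup.mem_centralizer_singleton_iff.mpr
        (congrArg Subtype.val (Subgroup.mem_centralizer_singleton_iff.mp hy)))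
  let fN : ↥N →* ℂˣ := f.comp N.subtype
  have hfN : fN.ker.index = 2 := range2 fN (fun x => hval x) (by
    obtain ⟨n, hn⟩ := hKN x₁
    exact ⟨n, hn.symm.trans hx₁⟩)
  have hN36 : Nat.card ↥(Subgroup.normalizer ((MK : Subgroup ↥K) : Set ↥K)) = 36 := by
    have h2 := Subgroup.card_mul_index fN.ker
    rw [hfN, hN72] at h2
    rw [show Nat.card ↥(Subgroup.normalizer ((MK : Subgroup ↥K) : Set ↥K)) = Nat.card fN.ker from
      Nat.card_congr
        { toFun := fun x => ⟨⟨(x.1 : G), (hNK x.1).mp x.2⟩, x.1.2⟩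
          invFun := fun x => ⟨⟨(x.1 : G), x.2⟩, (hNK _).mpr x.1.2⟩
          left_inv := fun x => rfl
          right_inv := fun x => rfl }]
    omega
  have hnormal : (MK : Subgroup ↥K).Normal → (M : Subgroup G).Normal := by
    intro hn
    refine ⟨fun m hm x => ?_⟩
    have hxm : x * m * x⁻¹ ∈ K := (MonoidHom.normal_ker f).conj_mem m (hMK hm) x
    refine mem_of_pow 1 (by rw [pow_one, conj_pow, h.exp m hm]; group) ((hNK ⟨_, hxm⟩).mp ?_)
    rw [Subgroup.normalizer_eq_top_iff.mpr hn]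
    exact Subgroup.mem_top _
  by_cases hall : ∀ n ∈ Subgroup.normalizer ((MK : Subgroup ↥K) : Set ↥K), n * n ∈ (MK : Subgroup ↥K)
  · exact Or.inl (hnormal (hyK.normal_of_klein hN36 hall))
  push Not at hall
  obtain ⟨n₀, hn₀, hn₀'⟩ := hall
  obtain ⟨hC, hn | ⟨h360, hsimple⟩⟩ := hyK.of_quarter hN36 ⟨n₀, hn₀⟩ hn₀'
  · exact Or.inl (hnormal hn)
  right
  haveI := hsimple
  haveI : IsSimpleGroup ↥(alternatingGroup (Fin 6)) := alternatingGroup.isSimpleGroup (by simp)
  obtain ⟨e₁⟩ := CfsgLib.SmallSimple.O360.nonempty_iso h360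
  obtain ⟨e₂⟩ := CfsgLib.SmallSimple.O360.nonempty_iso (G := ↥(alternatingGroup (Fin 6))) (by
    rw [nat_card_alternatingGroup, Nat.card_fin]; rfl)
  -- a reflection
  obtain ⟨a, ha⟩ := hπsurj (DihedralGroup.sr 0)
  obtain ⟨b, hb⟩ := hπsurj (DihedralGroup.sr 1)
  have hinv : ∀ x : ↥N, π x * π x = 1 → ∀ v, app (mat e x) (app (mat e x) v) = v := fun x hx v => by
    rw [← app_mat_mul, hmat1' _ (by rw [map_mul, hx])]
  obtain ⟨n, hn1, v, hv, hfix⟩ : ∃ n : ↥N, π n ≠ 1 ∧ ∃ v : V, v ≠ 0 ∧ app (mat e n) v = v := by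
    by_cases h' : mat e a = ((-1, 0), (0, -1))
    · refine ⟨b, by rw [hb]; decide +kernel, involution_fix _ (hinv b (by rw [hb]; decide +kernel)) fun h'' => ?_⟩
      have hm := (mat_eq_iff e h a b).mp (h'.trans h''.symm)
      have := (hπker (a⁻¹ * b)).mpr hm
      rw [map_mul, map_inv, ha, hb] at this
      exact absurd this (by decide +kernel)
    · exact ⟨a, by rw [ha]; decide +kernel, involution_fix _ (hinv a (by rw [ha]; decide +kernel)) h'⟩
  have hvK : el (phi e) v ∈ K := hMK (phi_mem e v)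
  have hv1 : (⟨el (phi e) v, hvK⟩ : ↥K) ≠ 1 := fun e' =>
    hv (el_injective e ((congrArg Subtype.val e').trans (el_zero _).symm))
  have hnv : (n : G) * el (phi e) v * (n : G)⁻¹ = el (phi e) v := by rw [← el_mat, hfix]
  have hnK : (n : G) ∉ K := by
    intro hnK
    apply hn1
    rw [hπker]
    refine (hMKmem ⟨n, hnK⟩).mp ((SetLike.ext_iff.mp (hC ⟨_, hvK⟩ (phi_mem e v) hv1) _).mp ?_)
    refine Subgroup.mem_centralizer_singleton_iff.mpr (Subtype.ext ?_)
    show (n : G) * el (phi e) v = el (phi e) v * n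
    calc (n : G) * el (phi e) v = (n : G) * el (phi e) v * (n : G)⁻¹ * n := by group
      _ = _ := by rw [hnv]
  refine nonempty_sym_six K hidx (e₁.trans e₂.symm) (fun x hx => hMK ?_) n hnK ⟨_, hvK⟩ ?_ hnv
  · refine (SetLike.ext_iff.mp h.selfc x).mp (Subgroup.mem_centralizer_iff.mpr fun m hm => ?_)
    exact (hx m (hMK hm)).symm
  · refine orderOf_eq_prime (Subtype.ext ?_) hv1
    exact h.exp _ (phi_mem e v)

end CfsgLib.SmallGroups.NineLocal
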